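import Cfsg.Agent.Co2Mult.Model

/-! The checks for the odd primes. -/

set_option autoImplicit false
set_option maxRecDepth 100000

namespace CfsgLib.Co2Mult

/-- A Sylow subgroup for an odd prime satisfies its rules and has the given fusion. -/
def okOdd (C : Schur.Pc.Cert) (xs gs : List ℕ) : Bool :=
  (C.rules.all fun q => weq (q.1.map (seqNum xs)) (q.2.map (seqNum xs))) &&
    Nat.beq gs.length C.fus.length && Nat.beq xs.length C.n &&
      (List.range C.fus.length).all fun f => (List.range C.fusW).all fun s =>
        weq (gs.getD f 999 :: ((C.fus.getD f ([], [])).1.getD s []).map (seqNum xs))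
          (((C.fus.getD f ([], [])).2.getD s []).map (seqNum xs) ++ [gs.getD f 999])

/-- An element of the given prime order. -/
def okPrime (p s : ℕ) : Bool := weq (List.replicate p s) [] && !weq [s] []

theorem okThree_true : okOdd cert3 xs3 gs3 = true := by decide +kernel

theorem cert3_shaped : Schur.Pc.shaped cert3.p cert3.n cert3.rules = true := by decide +kernel

theorem cert3_equations : (cert3.equations == cert3.eqs) = true := by decide +kernel

theorem cert3_ruleChecks : ((List.range cert3.rules.length).all fun r =>
    cert3.ruleCheck r (cert3.rules.getD r ([], []))) = true := by decide +kernel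

theorem cert3_check : cert3.check = true := by
  rw [Schur.Pc.Cert.check, cert3_shaped, cert3_equations, cert3_ruleChecks]
  rfl

theorem sep3_ok :
    ((List.range xs3.length).all fun i => sepOK 3 xs3 i (sep3.getD i (0, []))) = true := by
  decide +kernel

theorem okFive_true : okOdd cert5 xs5 gs5 = true := by decide +kernel

theorem cert5_check : cert5.check = true := by decide +kernel

theorem sep5_ok :
    ((List.range xs5.length).all fun i => sepOK 5 xs5 i (sep5.getD i (0, []))) = true := by
  decide +kernel

theorem okPrime_all : okPrime 7 (cyc.getD 0 999) = true ∧ okPrime 11 (cyc.getD 1 999) = true ∧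
    okPrime 23 (cyc.getD 2 999) = true := by decide +kernel

end CfsgLib.Co2Mult
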