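import Cfsg.Agent.Co2Mult.Model

/-! The checks for the prime two. -/

set_option autoImplicit false
set_option maxRecDepth 100000

namespace CfsgLib.Co2Mult

/-- The Sylow 2-subgroup satisfies its rules. -/
def okRules2 : Bool := cert2.rules.all fun q => weq (q.1.map (seqNum xs2)) (q.2.map (seqNum xs2))

/-- The fusion holds. -/
def okFus2 : Bool :=
  (List.range fus2.length).all fun f => (List.range 32).all fun s =>
    (((fus2.getD f ([], [])).1.getD s []).isEmpty && ((fus2.getD f ([], [])).2.getD s []).isEmpty) ||
      weq (gs2.getD f 999 :: ((fus2.getD f ([], [])).1.getD s []).map (seqNum xs2))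
        (((fus2.getD f ([], [])).2.getD s []).map (seqNum xs2) ++ [gs2.getD f 999])

theorem okRules2_true : okRules2 = true := by decide +kernel

theorem okFus2_true : okFus2 = true := by decide +kernel

theorem cert2_eqs : cert2.eqsCheck = true := by decide +kernel

theorem cert2_lin : cert2.linCheck = true := by decide +kernel

theorem cert2_shaped : Schur.Pc.shaped 2 18 cert2.rules = true := by decide +kernel

theorem sep2_ok :
    ((List.range xs2.length).all fun i => sepOK 2 xs2 i (sep2.getD i (0, []))) = true := by
  decide +kernel

end CfsgLib.Co2Mult
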