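import Cfsg.Agent.Leech.Tree

/-!
The sextet involution on packed vectors with the accelerated primitives only.
-/

set_option autoImplicit false

namespace CfsgLib.Co2Mult

open CfsgLib.Leech CfsgLib.Mathieu

/-- The four positions of the tetrad of each position, one table for each rank. -/
def xiTabA : ℕ := 385381939678761756095467163469431811405940614192168960
/-- The second positions. -/
def xiTabB : ℕ := 25767714946966910309577960720048225869664159072990068993
/-- The third positions. -/
def xiTabC : ℕ := 50579483623802528425731039056672515591929814491926233602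
/-- The fourth positions. -/
def xiTabD : ℕ := 566073426790464442630881430254292263520879252128505730839
/-- The positions of the first tetrad. -/
def xiNeg : ℕ := 8388615

/-- A table entry. -/
def tabAt (t i : ℕ) : ℕ := Nat.mod (Nat.shiftRight t (Nat.mul 8 i)) 256

/-- Half the field sum of the tetrad of a position. -/
def halfSum (x i : ℕ) : ℕ :=
  Nat.div (Nat.add (Nat.add (fieldN x (tabAt xiTabA i)) (fieldN x (tabAt xiTabB i)))
    (Nat.add (fieldN x (tabAt xiTabC i)) (fieldN x (tabAt xiTabD i)))) 2

/-- The involution on fields. -/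
def xiAt (x i : ℕ) : ℕ :=
  match Nat.beq (Nat.mod (Nat.shiftRight xiNeg i) 2) 1 with
  | true => Nat.mod (Nat.sub (halfSum x i) (fieldN x i)) 32
  | false => Nat.mod (Nat.sub (Nat.add (fieldN x i) 32) (halfSum x i)) 32

/-- A move on packed vectors. -/
def fact (x : ℕ) : Mv → ℕ
  | .mono t m => pact x (.mono t m)
  | .xi => force x fun x => packN (xiAt x) 24 0

theorem xi_tables : ∀ i < 24, tetPos.getD (tetList.getD i 0) [] =
      [tabAt xiTabA i, tabAt xiTabB i, tabAt xiTabC i, tabAt xiTabD i] ∧
    Nat.beq (Nat.mod (Nat.shiftRight xiNeg i) 2) 1 = decide (tetList.getD i 0 = 0) := by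
  decide +kernel

theorem xiAt_eq (x : ℕ) {i : ℕ} (hi : i < 24) : xiAt x i = (pactAt .xi x i + 16).toNat % 32 := by
  obtain ⟨ht, hb⟩ := xi_tables i hi
  have e : ∀ j, pcoord x j = (fieldN x j : ℤ) - 16 := fun _ => rfl
  simp only [xiAt, pactAt, ht, hb, halfSum, List.map_cons, List.map_nil, List.sum_cons, List.sum_nil, e]
  generalize fieldN x i = f
  generalize fieldN x (tabAt xiTabA i) = a
  generalize fieldN x (tabAt xiTabB i) = b
  generalize fieldN x (tabAt xiTabC i) = c
  generalize fieldN x (tabAt xiTabD i) = d
  by_cases h : tetList.getD i 0 = 0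
  · simp only [h, decide_true, if_true, Nat.add_eq, Nat.sub_eq]
    show ((a + b + (c + d)) / 2 - f) % 32 = _
    congr 1
    omega
  · simp only [h, decide_false, if_false, Nat.add_eq, Nat.sub_eq]
    show (f + 32 - (a + b + (c + d)) / 2) % 32 = _
    congr 1
    omega

theorem fact_eq (x : ℕ) (m : Mv) : fact x m = pact x m := by
  cases m with
  | mono t c => rfl
  | xi =>
    rw [fact, force_eq, pact_eq]
    have : ∀ n i, i + n ≤ 24 → packN (xiAt x) n i = packFrom (pactAt .xi x) n i := by
      intro n
      induction n with
      | zero => intros; rfl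
      | succ n ih =>
        intro i hi
        rw [packN, packFrom, ← ih (i + 1) (by omega), xiAt_eq x (by omega)]
        rfl
    exact this 24 0 le_rfl

end CfsgLib.Co2Mult
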