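import Cfsg.Agent.Co2Mult.ChecksTwo
import Cfsg.Agent.Co2Mult.ChecksOdd
import Cfsg.Agent.Schur.Basic
import Cfsg.Prelude.Def_KGroupFacts

/-!
The Schur multiplier of `Cfsg.Spor.Co2` is trivial.
-/

set_option autoImplicit false
set_option linter.style.haveILetI false
set_option maxRecDepth 100000

namespace CfsgLib.Co2Mult

open Cfsg CfsgLib.Mathieu CfsgLib.Leech
open CfsgLib.Schur.Pc (ev tailSubgroup)
open Spor (leechU Co2)

theorem leechU_norm : sqNorm (leechU : GolayPt → ℤ) = 32 := by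
  rw [leechU_vec]; decide +kernel

theorem card_Co2 : Nat.card ↥Co2 = 42305421312000 := by
  let e : ↥Co2 ≃ ↥(MulAction.stabilizer Co0 leechU) :=
    { toFun := fun g => ⟨⟨g.1, g.2.1⟩, g.2.2⟩
      invFun := fun g => ⟨g.1.1, g.1.2, g.2⟩
      left_inv := fun _ => rfl
      right_inv := fun _ => rfl }
  rw [Nat.card_congr e, card_stab_norm32 leechU_norm]

theorem finite_Co2 : Finite ↥Co2 :=
  Nat.finite_of_card_ne_zero (by rw [card_Co2]; norm_num)

theorem rules2 : ∀ q ∈ cert2.rules, ev (seq xs2) q.1 = ev (seq xs2) q.2 := by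
  intro q hq
  rw [ev_seq, ev_seq]
  exact ev_eq_of_weq (List.all_eq_true.1 okRules2_true q hq)

theorem card_sylow2 : Nat.card (tailSubgroup (seq xs2) 18 0) = 2 ^ 18 := by
  have := finite_Co2
  refine le_antisymm (Schur.Pc.card_tailSubgroup_le (seq xs2) cert2_shaped rules2 18 0 rfl) ?_
  exact le_card_tail (p := 2) (xs := xs2) sep2_ok

theorem two_part {Δ : Type} [Group Δ] [Finite Δ] (σ : Δ →* ↥Co2)
    (hσ : Cfsg.IsStemExtension σ) (hexp : ∀ z ∈ σ.ker, z ^ 2 = 1) : σ.ker = ⊥ := by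
  have h := okFus2_true
  simp only [okFus2, List.all_eq_true, List.mem_range, Bool.or_eq_true, Bool.and_eq_true,
    List.isEmpty_iff] at h
  refine Schur.TwoWide.Cert.ker_eq_bot cert2 σ hσ hexp cert2_eqs cert2_lin (seq xs2) ?_ ?_ ?_ ?_
  · intro a b hab hb
    have hq : ([b, a], cert2.rule b a) ∈ cert2.rules := by
      simp only [Schur.TwoWide.Cert.rules, List.mem_flatMap, List.mem_map, List.mem_range]
      exact ⟨b, hb, a, Nat.lt_succ_of_le hab, rfl⟩
    simpa [Schur.Pc.ev] using rules2 _ hq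
  · intro F hF
    obtain ⟨i, hi, rfl⟩ := List.getElem_of_mem hF
    refine ⟨el (gs2.getD i 999), fun s hs => ?_⟩
    have hget : fus2.getD i ([], []) = cert2.fus[i] := List.getD_eq_getElem _ _ hi
    rw [mul_inv_eq_iff_eq_mul]
    rcases h i hi s hs with ⟨h1, h2⟩ | e
    · rw [hget] at h1 h2
      rw [h1, h2, Schur.Pc.ev_nil, mul_one, one_mul]
    · have e := ev_eq_of_weq e
      rw [hget, Schur.Pc.ev_cons, Schur.Pc.ev_append, Schur.Pc.ev_cons, Schur.Pc.ev_nil, mul_one,
        ← ev_seq, ← ev_seq] at e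
      exact e
  · rw [show cert2.n = 18 from rfl, card_sylow2]
  · rw [show cert2.n = 18 from rfl]
    intro hd
    have h := Subgroup.index_mul_card (tailSubgroup (seq xs2) 18 0)
    rw [card_sylow2, card_Co2] at h
    norm_num at h
    omega

theorem odd_part {C : Schur.Pc.Cert} {xs gs : List ℕ} {seps : List (ℕ × List ℕ)}
    (hok : okOdd C xs gs = true) (hcheck : C.check = true)
    (hsep : ((List.range xs.length).all fun i => sepOK C.p xs i (seps.getD i (0, []))) = true)
    (hp : C.p.Prime) {m : ℕ} (hm : 42305421312000 = C.p ^ C.n * m) (hmp : ¬ C.p ∣ m)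
    {Δ : Type} [Group Δ] [Finite Δ] (σ : Δ →* ↥Co2)
    (hσ : Cfsg.IsStemExtension σ) (hexp : ∀ z ∈ σ.ker, z ^ C.p = 1) : σ.ker = ⊥ := by
  have := finite_Co2
  simp only [okOdd, Bool.and_eq_true, List.all_eq_true, List.mem_range] at hok
  obtain ⟨⟨⟨hrules, -⟩, hlen⟩, hfus⟩ := hok
  have hn : xs.length = C.n := Nat.eq_of_beq_eq_true hlen
  have hr : ∀ q ∈ C.rules, ev (seq xs) q.1 = ev (seq xs) q.2 := fun q hq => by
    rw [ev_seq, ev_seq]
    exact ev_eq_of_weq (hrules q hq)
  have hcard : C.p ^ C.n ≤ Nat.card (tailSubgroup (seq xs) C.n 0) := by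
    rw [← hn]; exact le_card_tail hsep
  refine C.ker_eq_bot σ hσ hp hexp hcheck (seq xs) hr ?_ hcard ?_
  · intro F hF
    obtain ⟨i, hi, rfl⟩ := List.getElem_of_mem hF
    refine ⟨el (gs.getD i 999), fun s hs => ?_⟩
    have e := ev_eq_of_weq (hfus i hi s hs)
    rw [List.getD_eq_getElem _ _ hi, Schur.Pc.ev_cons, Schur.Pc.ev_append, Schur.Pc.ev_cons,
      Schur.Pc.ev_nil, mul_one, ← ev_seq, ← ev_seq] at e
    rw [mul_inv_eq_iff_eq_mul]
    exact e
  · have hshape : Schur.Pc.shaped C.p C.n C.rules = true := by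
      have h := hcheck
      simp only [Schur.Pc.Cert.check, Bool.and_eq_true] at h
      exact h.1.1
    have hS := le_antisymm (Schur.Pc.card_tailSubgroup_le (seq xs) hshape hr C.n 0 (Nat.zero_add _)) hcard
    have h := Subgroup.index_mul_card (tailSubgroup (seq xs) C.n 0)
    rw [hS, card_Co2, hm, Nat.mul_comm] at h
    rwa [Nat.eq_of_mul_eq_mul_left (pow_pos hp.pos _) h]

theorem prime_part {p : ℕ} (hp : p.Prime) {s : ℕ} (hok : okPrime p s = true) {m : ℕ}
    (hm : 42305421312000 = p * m) (hmp : ¬ p ∣ m) {Δ : Type} [Group Δ] [Finite Δ]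
    (σ : Δ →* ↥Co2) (hσ : Cfsg.IsStemExtension σ) (hexp : ∀ z ∈ σ.ker, z ^ p = 1) :
    σ.ker = ⊥ := by
  haveI : Fact p.Prime := ⟨hp⟩
  simp only [okPrime, Bool.and_eq_true, Bool.not_eq_true'] at hok
  have hpow : el s ^ p = 1 := by
    have e := ev_eq_of_weq hok.1
    rwa [Schur.Pc.ev_replicate, Schur.Pc.ev_nil] at e
  have hne : el s ≠ 1 := fun e => by
    have key : weq [s] [] = true := by
      simp only [weq, List.all_eq_true, List.mem_range]
      intro j hj
      have hj' := List.all_eq_true.1 ecode_facts j (List.mem_range.2 hj)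
      simp only [Bool.and_eq_true] at hj'
      have hg := good_of_goodB hj'.1
      obtain ⟨e1, g1⟩ := wrun_spec [s] hg
      obtain ⟨e2, g2⟩ := wrun_spec [] hg
      rw [Schur.Pc.ev_cons, Schur.Pc.ev_nil, mul_one, e] at e1
      rw [Schur.Pc.ev_nil] at e2
      rw [good_inj g1 g2 (e1.symm.trans e2)]
      exact Nat.beq_refl _
    exact Bool.noConfusion (hok.2.symm.trans key)
  refine Schur.ker_eq_bot_of_index_zpowers hp (el s) ?_ σ hσ hexp
  have h := Subgroup.index_mul_card (Subgroup.zpowers (el s))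
  rw [Nat.card_zpowers, orderOf_eq_prime hpow hne, card_Co2, hm, Nat.mul_comm] at h
  rwa [Nat.eq_of_mul_eq_mul_left hp.pos h]

/-- The Schur multiplier of Co₂ is trivial. -/
theorem multiplier_co2 : Cfsg.HasCyclicSchurMultiplier ↥Co2 1 := by
  haveI := finite_Co2
  refine Schur.hasCyclicSchurMultiplier_one _ fun p hp hd Γ _ _ σ hσ hexp => ?_
  rw [card_Co2,
    show (42305421312000 : ℕ) = 2 ^ 18 * (3 ^ 6 * (5 ^ 3 * (7 * (11 * 23)))) by norm_num] at hd
  simp only [hp.dvd_mul] at hd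
  obtain ⟨h7, h11, h23⟩ := okPrime_all
  rcases hd with h | h | h | h | h | h
  · obtain rfl := (Nat.prime_dvd_prime_iff_eq hp Nat.prime_two).1 (hp.dvd_of_dvd_pow h)
    exact two_part σ hσ hexp
  · obtain rfl := (Nat.prime_dvd_prime_iff_eq hp Nat.prime_three).1 (hp.dvd_of_dvd_pow h)
    exact odd_part (C := cert3) okThree_true cert3_check sep3_ok Nat.prime_three (m := 58032128000)
      (by decide +kernel) (by decide +kernel) σ hσ hexp
  · obtain rfl := (Nat.prime_dvd_prime_iff_eq hp Nat.prime_five).1 (hp.dvd_of_dvd_pow h)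
    exact odd_part (C := cert5) okFive_true cert5_check sep5_ok Nat.prime_five (m := 338443370496)
      (by decide +kernel) (by decide +kernel) σ hσ hexp
  · obtain rfl := (Nat.prime_dvd_prime_iff_eq hp (by norm_num)).1 h
    exact prime_part hp h7 (m := 6043631616000) (by norm_num) (by norm_num) σ hσ hexp
  · obtain rfl := (Nat.prime_dvd_prime_iff_eq hp (by norm_num)).1 h
    exact prime_part hp h11 (m := 3845947392000) (by norm_num) (by norm_num) σ hσ hexp
  · obtain rfl := (Nat.prime_dvd_prime_iff_eq hp (by norm_num)).1 h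
    exact prime_part hp h23 (m := 1839366144000) (by norm_num) (by norm_num) σ hσ hexp

end CfsgLib.Co2Mult
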