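import Cfsg.Prelude.Def_Spor_Conway
import Cfsg.Agent.Co2Mult.Data
import Cfsg.Agent.Co2Mult.FastXi
import Cfsg.Agent.Leech.CrossMax
import Cfsg.Agent.Leech.Tree
import Cfsg.Agent.Leech.Co0Order

/-!
Members of `Cfsg.Spor.Co2` given by moves, equality of words in them, and lower bounds for
the orders of subgroups from separating sets of vectors.
-/

set_option autoImplicit false

namespace CfsgLib.Co2Mult

open Cfsg CfsgLib.Mathieu CfsgLib.Leech
open CfsgLib.Schur.Pc (ev tailSubgroup)
open Spor (leechU Co2)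

/-- The coordinates of the fixed vector. -/
def uList : List ℤ := (List.range 24).map fun i => if i = 0 ∨ i = 23 then 4 else 0

attribute [local irreducible] dec penc pact

theorem leechU_vec : (leechU : GolayPt → ℤ) = vec uList := funext (by decide +kernel)

/-- The moves of an element. -/
def getm (i : ℕ) : List Mv := els.getD i []

theorem els_ok : els.all (fun ms => ms.all Mv.ok && runMoves ms uList == uList) = true := by
  decide +kernel

theorem getm_ok (i : ℕ) : (getm i).all Mv.ok = true ∧ runMoves (getm i) uList = uList := by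
  rw [getm]
  rcases Nat.lt_or_ge i els.length with h | h
  · have := List.all_eq_true.1 els_ok _ (List.getElem_mem h)
    rw [Bool.and_eq_true, beq_iff_eq] at this
    rwa [List.getD_eq_getElem _ _ h]
  · rw [List.getD_eq_default _ _ h]
    exact ⟨rfl, rfl⟩

theorem exists_el (i : ℕ) : ∃ g : ↥Co2, ∀ (l : List ℤ) (hl : vec l ∈ leechLattice),
    (((⟨g.1, g.2.1⟩ : Co0) • (⟨vec l, hl⟩ : leechLattice) : leechLattice) : GolayPt → ℤ) =
      vec (runMoves (getm i) l) := by
  obtain ⟨hok, hu⟩ := getm_ok i
  obtain ⟨g, -, hg⟩ := runMoves_spec _ hok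
  have hm : vec uList ∈ leechLattice := leechU_vec ▸ leechU.2
  have hfix : g • leechU = leechU := by
    rw [show leechU = ⟨_, hm⟩ from Subtype.ext leechU_vec]
    exact Subtype.ext (by rw [hg _ hm, hu])
  exact ⟨⟨g.1, g.2, hfix⟩, hg⟩

/-- An element. -/
noncomputable def el (i : ℕ) : ↥Co2 := (exists_el i).choose

/-- The inclusion in `Co0`. -/
def inc : ↥Co2 →* Co0 := MonoidHom.mk' (fun g => ⟨g.1, g.2.1⟩) fun _ _ => rfl

theorem inc_injective : Function.Injective inc := fun _ _ h =>
  Subtype.ext (congrArg (fun z : Co0 => z.1) h :)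

theorem el_spec (i : ℕ) (l : List ℤ) (hl : vec l ∈ leechLattice) :
    ((inc (el i) • (⟨vec l, hl⟩ : leechLattice) : leechLattice) : GolayPt → ℤ) =
      vec (runMoves (getm i) l) :=
  (exists_el i).choose_spec l hl

/-- A packed lattice vector of small norm. -/
def Good (c : ℕ) : Prop :=
  vec (dec c) ∈ leechLattice ∧ sqNorm (vec (dec c)) ≤ 80 ∧ penc (dec c) = c

/-- The Boolean form of `Good`. -/
def goodB (c : ℕ) : Bool :=
  leechB (vec (dec c)) && decide (sqNorm (vec (dec c)) ≤ 80) && Nat.beq (penc (dec c)) c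

theorem good_of_goodB {c : ℕ} (h : goodB c = true) : Good c := by
  simp only [goodB, Bool.and_eq_true, decide_eq_true_eq] at h
  exact ⟨leechB_iff.1 h.1.1, h.1.2, Nat.eq_of_beq_eq_true h.2⟩

/-- The code of a unit vector times eight. -/
def ecode (j : ℕ) : ℕ := penc ((List.range 24).map fun i => if i = j then (8 : ℤ) else 0)

theorem ecode_facts : ((List.range 24).all fun j => goodB (ecode j) &&
    dec (ecode j) == (List.range 24).map fun i => if i = j then (8 : ℤ) else 0) = true := by
  decide +kernel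

/-- A sum below a bound, with the accelerated primitives only. -/
def sumN (f : ℕ → ℕ) : ℕ → ℕ
  | 0 => 0
  | n + 1 => Nat.add (sumN f n) (f n)

theorem sumN_eq (f : ℕ → ℕ) : ∀ n, sumN f n = ∑ i ∈ Finset.range n, f i
  | 0 => rfl
  | n + 1 => by rw [sumN, Finset.sum_range_succ, sumN_eq f n]; rfl

/-- The code of the zero vector. -/
def zcode : ℕ := sumN (fun k => Nat.mul 16 (Nat.pow 32 k)) 24

/-- The image of a packed vector under the element with the given columns. -/
def matApp (cols : List ℕ) (c : ℕ) : ℕ :=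
  force c fun c =>
    Nat.div (Nat.sub (Nat.add (sumN (fun j => Nat.mul (fieldN c j) (cols.getD j 0)) 24) (Nat.mul 392 zcode))
      (Nat.add (Nat.mul 16 (sumN (fun j => cols.getD j 0) 24)) (Nat.mul zcode (sumN (fieldN c) 24)))) 8

theorem packFrom_sum (f : ℕ → ℤ) : ∀ n i, packFrom f n i =
    ∑ k ∈ Finset.range n, ((f (i + k) + 16).toNat % 32) * 32 ^ k
  | 0, _ => rfl
  | n + 1, i => by
    rw [packFrom, Finset.sum_range_succ', packFrom_sum f n (i + 1), Finset.mul_sum, pow_zero, mul_one,
      add_comm, Nat.add_zero]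
    congr 1
    refine Finset.sum_congr rfl fun k _ => ?_
    rw [pow_succ, show i + 1 + k = i + (k + 1) by omega]
    ring

/-- The linear part of the packing. -/
def lin32 (x : GolayPt → ℤ) : ℤ := ∑ p, x p * 32 ^ idx p

theorem sum_idx (f : ℕ → ℤ) : ∑ k ∈ Finset.range 24, f k = ∑ p : GolayPt, f (idx p) :=
  Finset.sum_nbij' pt idx (fun _ _ => Finset.mem_univ _)
    (fun p _ => Finset.mem_range.2 (idx_lt p)) (fun _ hk => idx_pt (Finset.mem_range.1 hk))
    (fun p _ => pt_idx p) (fun _ hk => congrArg f (idx_pt (Finset.mem_range.1 hk)).symm)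

theorem vec_dec (c : ℕ) (p : GolayPt) : vec (dec c) p = (fieldN c (idx p) : ℤ) - 16 :=
  dec_getD c (idx_lt p)

theorem code_eq {c : ℕ} (h : Good c) : (c : ℤ) = zcode + lin32 (vec (dec c)) := by
  have e := h.2.2
  rw [penc, packFrom_sum] at e
  conv_lhs => rw [← e]
  rw [zcode, sumN_eq, Nat.cast_sum, Nat.cast_sum, lin32,
    sum_idx fun k => ((((dec c).getD (0 + k) 0 + 16).toNat % 32 * 32 ^ k : ℕ) : ℤ),
    sum_idx fun k => ((Nat.mul 16 (Nat.pow 32 k) : ℕ) : ℤ), ← Finset.sum_add_distrib]
  refine Finset.sum_congr rfl fun p _ => ?_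
  rw [Nat.zero_add, show (dec c).getD (idx p) 0 = vec (dec c) p from rfl, vec_dec]
  have hlt : fieldN c (idx p) < 32 := Nat.mod_lt _ (by norm_num)
  rw [show ((fieldN c (idx p) : ℤ) - 16 + 16).toNat = fieldN c (idx p) by omega,
    Nat.mod_eq_of_lt hlt, show Nat.mul 16 (Nat.pow 32 (idx p)) = 16 * 32 ^ idx p from rfl]
  push_cast
  ring

/-- The columns of an element. -/
def colsOf (i : ℕ) : List ℕ := colTab.getD i ((List.range 24).map ecode)

/-- A word on a packed vector. -/
def wrun : List ℕ → ℕ → ℕ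
  | [], c => c
  | a :: w, c => matApp (colsOf a) (wrun w c)

theorem move_spec (i : ℕ) {c : ℕ} (h : Good c) :
    ((inc (el i) • (⟨vec (dec c), h.1⟩ : leechLattice) : leechLattice) : GolayPt → ℤ) =
      vec (dec ((getm i).foldl pact c)) ∧ Good ((getm i).foldl pact c) := by
  obtain ⟨e, e'⟩ := prun_spec (getm i) (getm_ok i).1 c h.1 h.2.1 h.2.2
  have h1 : ((inc (el i) • (⟨vec (dec c), h.1⟩ : leechLattice) : leechLattice) : GolayPt → ℤ) =
      vec (dec ((getm i).foldl pact c)) := by rw [el_spec, e]
  refine ⟨h1, ?_, ?_, e'⟩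
  · rw [← h1]; exact (inc (el i) • (⟨vec (dec c), h.1⟩ : leechLattice)).2
  · rw [← h1, co0_norm]; exact h.2.1

/-- The tables of columns are those of the moves. -/
def colsCheck (i : ℕ) : Bool :=
  (List.range 24).all fun j => Nat.beq ((colsOf i).getD j 0) ((getm i).foldl fact (ecode j))

theorem colsCheck_all : ((List.range els.length).all colsCheck && els.length == colTab.length) = true := by
  decide +kernel

theorem colsOf_eq (i : ℕ) {j : ℕ} (hj : j < 24) :
    (colsOf i).getD j 0 = (getm i).foldl pact (ecode j) := by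
  have h := colsCheck_all
  rw [Bool.and_eq_true, beq_iff_eq] at h
  rcases Nat.lt_or_ge i els.length with hi | hi
  · have h2 := List.all_eq_true.1 (List.all_eq_true.1 h.1 i (List.mem_range.2 hi)) j (List.mem_range.2 hj)
    rw [← funext fun x => funext (fact_eq x)]
    exact Nat.eq_of_beq_eq_true h2
  · have hi2 : colTab.length ≤ i := by omega
    rw [colsOf, List.getD_eq_default colTab _ hi2, getm, List.getD_eq_default els _ hi,
      getD_map_range _ hj]
    rfl

theorem unit_good (p : GolayPt) : ∃ hg : Good (ecode (idx p)),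
    eightL p = ⟨vec (dec (ecode (idx p))), hg.1⟩ := by
  have hj := List.all_eq_true.1 ecode_facts (idx p) (List.mem_range.2 (idx_lt p))
  simp only [Bool.and_eq_true, beq_iff_eq] at hj
  refine ⟨good_of_goodB hj.1, Subtype.ext ?_⟩
  show eight p = vec (dec (ecode (idx p)))
  rw [eight_eq_vec]
  exact congrArg vec hj.2.symm

theorem matApp_eq (i : ℕ) {c : ℕ} (h : Good c) : matApp (colsOf i) c = (getm i).foldl pact c := by
  obtain ⟨e, hG⟩ := move_spec i h
  set g := co0Hom (inc (el i))
  set v : leechLattice := ⟨vec (dec c), h.1⟩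
  have e8 : (8 : ℤ) • v = ∑ p, (v : GolayPt → ℤ) p • eightL p := by
    apply Subtype.ext
    rw [AddSubgroup.coe_zsmul, AddSubgroup.val_finsetSum]
    funext q
    simp only [Pi.smul_apply, Finset.sum_apply, AddSubgroup.coe_zsmul, eightL, eight, smul_eq_mul]
    rw [Finset.sum_eq_single q]
    · simp [mul_comm]
    · intro b _ hb; simp [Pi.single_apply, Ne.symm hb]
    · simp
  have e1 := congrArg (fun w : leechLattice => lin32 (w : GolayPt → ℤ)) (congrArg g e8)
  simp only [map_sum, map_zsmul, AddSubgroup.coe_zsmul, AddSubgroup.val_finsetSum] at e1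
  have hlinZ : ∀ (a : ℤ) (x : GolayPt → ℤ), lin32 (a • x) = a * lin32 x := fun a x => by
    simp only [lin32, Pi.smul_apply, smul_eq_mul, Finset.mul_sum, mul_assoc]
  have hlinS : ∀ F : GolayPt → GolayPt → ℤ, lin32 (∑ p, F p) = ∑ p, lin32 (F p) := fun F => by
    simp only [lin32, Finset.sum_apply, Finset.sum_mul]
    exact Finset.sum_comm
  simp only [hlinS, hlinZ] at e1
  have hv : lin32 ((g v : leechLattice) : GolayPt → ℤ) = (((getm i).foldl pact c : ℕ) : ℤ) - zcode := by
    rw [show g v = inc (el i) • v from rfl, e, code_eq hG]; ring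
  have hcol : ∀ p : GolayPt, lin32 ((g (eightL p) : leechLattice) : GolayPt → ℤ) =
      ((colsOf i).getD (idx p) 0 : ℤ) - zcode := by
    intro p
    obtain ⟨hg, ep⟩ := unit_good p
    obtain ⟨e2, hG2⟩ := move_spec i hg
    rw [show g (eightL p) = inc (el i) • eightL p from rfl, ep, e2, colsOf_eq i (idx_lt p), code_eq hG2]
    ring
  rw [hv, Finset.sum_congr rfl fun p _ => by
    rw [hcol p, show (v : GolayPt → ℤ) p = (fieldN c (idx p) : ℤ) - 16 from vec_dec c p]] at e1
  rw [← sum_idx fun k => ((fieldN c k : ℤ) - 16) * (((colsOf i).getD k 0 : ℤ) - zcode)] at e1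
  simp only [sub_mul, mul_sub, Finset.sum_sub_distrib, ← Finset.sum_mul, ← Finset.mul_sum,
    Finset.sum_const, Finset.card_range, nsmul_eq_mul] at e1
  norm_num at e1
  simp only [← List.getD_eq_getElem?_getD] at e1
  rw [matApp, force_eq]
  show ((sumN (fun j => fieldN c j * (colsOf i).getD j 0) 24 + 392 * zcode) -
    (16 * sumN (fun j => (colsOf i).getD j 0) 24 + zcode * sumN (fieldN c) 24)) / 8 = _
  simp only [sumN_eq]
  generalize hS : ∑ j ∈ Finset.range 24, fieldN c j * (colsOf i).getD j 0 = S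
  generalize hA : ∑ j ∈ Finset.range 24, (colsOf i).getD j 0 = A
  generalize hF : ∑ j ∈ Finset.range 24, fieldN c j = Fs
  have hS' := congrArg (Nat.cast : ℕ → ℤ) hS
  have hA' := congrArg (Nat.cast : ℕ → ℤ) hA
  have hF' := congrArg (Nat.cast : ℕ → ℤ) hF
  push_cast at hS' hA' hF'
  rw [hS', hA', hF'] at e1
  generalize (getm i).foldl pact c = R at e1
  have key : (8 * R : ℤ) + (16 * A + zcode * Fs) = S + 392 * zcode := by linarith
  have key' : 8 * R + (16 * A + zcode * Fs) = S + 392 * zcode := by exact_mod_cast key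
  rw [← key', Nat.add_sub_cancel, Nat.mul_div_cancel_left _ (by norm_num : 0 < 8)]

theorem wrun_spec : ∀ (w : List ℕ) {c : ℕ} (h : Good c),
    ((inc (ev el w) • (⟨vec (dec c), h.1⟩ : leechLattice) : leechLattice) : GolayPt → ℤ) =
      vec (dec (wrun w c)) ∧ Good (wrun w c)
  | [], c, h => ⟨by rw [Schur.Pc.ev_nil, map_one, one_smul]; rfl, h⟩
  | a :: w, c, h => by
    obtain ⟨e, hG⟩ := wrun_spec w h
    obtain ⟨e2, hG2⟩ := move_spec a hG
    rw [wrun, matApp_eq a hG]
    refine ⟨?_, hG2⟩
    rw [Schur.Pc.ev_cons, map_mul, mul_smul,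
      show inc (ev el w) • (⟨vec (dec c), h.1⟩ : leechLattice) = ⟨_, hG.1⟩ from Subtype.ext e, e2]

theorem good_inj {a b : ℕ} (ha : Good a) (hb : Good b) (e : vec (dec a) = vec (dec b)) : a = b := by
  rw [← ha.2.2, ← hb.2.2, ← toList_vec (dec_length a), e, toList_vec (dec_length b)]

/-- Two words give the same element. -/
def weq (u v : List ℕ) : Bool :=
  (List.range 24).all fun j => Nat.beq (wrun u (ecode j)) (wrun v (ecode j))

theorem ev_eq_of_weq {u v : List ℕ} (h : weq u v = true) : ev el u = ev el v := by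
  refine inc_injective (co0_eq_of_eight fun p => Subtype.ext ?_)
  obtain ⟨hg, e⟩ := unit_good p
  rw [e, (wrun_spec u hg).1, (wrun_spec v hg).1,
    Nat.eq_of_beq_eq_true (List.all_eq_true.1 h (idx p) (List.mem_range.2 (idx_lt p)))]

/-- The numbers of the members of a sequence; the last entries are missing. -/
def seqNum (xs : List ℕ) (i : ℕ) : ℕ := xs.getD i 999

/-- The members of a sequence. -/
noncomputable def seq (xs : List ℕ) (i : ℕ) : ↥Co2 := el (seqNum xs i)

theorem ev_seq (xs w : List ℕ) : ev (seq xs) w = ev el (w.map (seqNum xs)) := by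
  simp only [Schur.Pc.ev, List.map_map]
  rfl

/-- A set of vectors kept by the later members of a sequence, which the powers of member `i` leave. -/
def sepOK (p : ℕ) (xs : List ℕ) (i : ℕ) (d : ℕ × List ℕ) : Bool :=
  goodB d.1 && d.2.contains d.1 &&
    ((List.range (p - 1)).all fun k =>
      !d.2.contains (wrun (List.replicate (k + 1) (seqNum xs i)) d.1)) &&
    (List.range (xs.length - (i + 1))).all fun k =>
      d.2.all fun o => d.2.contains (wrun [seqNum xs (i + 1 + k)] o)

theorem pow_not_mem {p : ℕ} {xs : List ℕ} {i k : ℕ} {d : ℕ × List ℕ}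
    (h : sepOK p xs i d = true) (hk : 0 < k) (hkp : k < p) :
    seq xs i ^ k ∉ tailSubgroup (seq xs) xs.length (i + 1) := by
  have := co0_finite
  have : Finite ↥Co2 := Finite.of_injective inc inc_injective
  simp only [sepOK, Bool.and_eq_true, List.all_eq_true, List.mem_range, Bool.not_eq_true',
    List.contains_iff_mem] at h
  obtain ⟨⟨⟨hv, hvS⟩, hout⟩, hcl⟩ := h
  intro hmem
  have key : ∀ g ∈ tailSubgroup (seq xs) xs.length (i + 1), ∀ o ∈ d.2, ∀ ho : Good o,
      ∃ o' ∈ d.2, Good o' ∧
        ((inc g • (⟨vec (dec o), ho.1⟩ : leechLattice) : leechLattice) : GolayPt → ℤ) = vec (dec o') := by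
    intro g hg
    have hg' : g ∈ (tailSubgroup (seq xs) xs.length (i + 1)).toSubmonoid := hg
    rw [tailSubgroup, Subgroup.closure_toSubmonoid_of_finite] at hg'
    clear hg hmem
    induction hg' using Submonoid.closure_induction with
    | mem x hx =>
      obtain ⟨j, ⟨hj1, hj2⟩, rfl⟩ := hx
      intro o ho hgo
      have h1 := hcl (j - (i + 1)) (by omega) o ho
      rw [show i + 1 + (j - (i + 1)) = j by omega] at h1
      obtain ⟨e, hG⟩ := wrun_spec [seqNum xs j] hgo
      rw [Schur.Pc.ev_cons, Schur.Pc.ev_nil, mul_one] at e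
      exact ⟨_, h1, hG, e⟩
    | one => exact fun o ho hgo => ⟨o, ho, hgo, by rw [map_one, one_smul]⟩
    | mul a b _ _ ha hb =>
      intro o ho hgo
      obtain ⟨o1, ho1, hg1, e1⟩ := hb o ho hgo
      obtain ⟨o2, ho2, hg2, e2⟩ := ha o1 ho1 hg1
      exact ⟨o2, ho2, hg2, by rw [map_mul, mul_smul,
        show inc b • (⟨vec (dec o), hgo.1⟩ : leechLattice) = ⟨_, hg1.1⟩ from Subtype.ext e1, e2]⟩
  have hG := good_of_goodB hv
  obtain ⟨o', ho', hg', e⟩ := key _ hmem d.1 hvS hG
  obtain ⟨e2, hg2⟩ := wrun_spec (List.replicate k (seqNum xs i)) hG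
  rw [Schur.Pc.ev_replicate, show el (seqNum xs i) = seq xs i from rfl] at e2
  have h2 := hout (k - 1) (by omega)
  rw [show k - 1 + 1 = k by omega, good_inj hg2 hg' (e2.symm.trans e),
    List.contains_iff_mem.2 ho'] at h2
  exact Bool.noConfusion h2

/-- The lower bound for the order of the subgroup generated by a sequence. -/
theorem le_card_tail {p : ℕ} {xs : List ℕ} {seps : List (ℕ × List ℕ)}
    (h : ((List.range xs.length).all fun i => sepOK p xs i (seps.getD i (0, []))) = true) :
    p ^ xs.length ≤ Nat.card (tailSubgroup (seq xs) xs.length 0) := by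
  have := co0_finite
  have : Finite ↥Co2 := Finite.of_injective inc inc_injective
  simp only [List.all_eq_true, List.mem_range] at h
  have key : ∀ d i, i + d = xs.length → p ^ d ≤ Nat.card (tailSubgroup (seq xs) xs.length i) := by
    intro d
    induction d with
    | zero => intro i _; exact Nat.card_pos
    | succ d ih =>
      intro i hi
      have hle := Schur.Pc.tailSubgroup_mono (seq xs) (n := xs.length) (Nat.le_succ i)
      have hx : seq xs i ∈ tailSubgroup (seq xs) xs.length i :=
        Schur.Pc.gen_mem_tailSubgroup _ le_rfl (by omega)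
      let f : Fin p × tailSubgroup (seq xs) xs.length (i + 1) → tailSubgroup (seq xs) xs.length i :=
        fun q => ⟨seq xs i ^ (q.1 : ℕ) * q.2, mul_mem (pow_mem hx _) (hle q.2.2)⟩
      have main : ∀ (a b : Fin p) (s t : tailSubgroup (seq xs) xs.length (i + 1)),
          seq xs i ^ (a : ℕ) * s = seq xs i ^ (b : ℕ) * t → (a : ℕ) ≤ b → a = b := by
        intro a b s t e hab
        by_contra hne
        have hlt : (a : ℕ) < b := lt_of_le_of_ne hab fun h => hne (Fin.ext h)
        refine pow_not_mem (h i (by omega)) (k := (b : ℕ) - a) (by omega) (by omega) ?_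
        have e2 : seq xs i ^ ((b : ℕ) - a) = (s : ↥Co2) * (t : ↥Co2)⁻¹ := by
          rw [show (b : ℕ) = a + ((b : ℕ) - a) by omega, pow_add, mul_assoc] at e
          exact eq_mul_inv_of_mul_eq (mul_left_cancel e).symm
        rw [e2]
        exact mul_mem s.2 (inv_mem t.2)
      have hf : Function.Injective f := by
        rintro ⟨a, s⟩ ⟨b, t⟩ e
        have e' : seq xs i ^ (a : ℕ) * s = seq xs i ^ (b : ℕ) * t := congrArg Subtype.val e
        obtain rfl : a = b := (le_total (a : ℕ) b).elim (main a b s t e')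
          (fun hba => (main b a t s e'.symm hba).symm)
        exact Prod.ext rfl (Subtype.ext (mul_left_cancel e'))
      calc p ^ (d + 1) = p * p ^ d := pow_succ' p d
        _ ≤ p * Nat.card (tailSubgroup (seq xs) xs.length (i + 1)) :=
          Nat.mul_le_mul_left _ (ih (i + 1) (by omega))
        _ = Nat.card (Fin p × tailSubgroup (seq xs) xs.length (i + 1)) := by
          rw [Nat.card_prod, Nat.card_fin]
        _ ≤ _ := Nat.card_le_card_of_injective f hf
  exact key _ 0 (Nat.zero_add _)

end CfsgLib.Co2Mult
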